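import Cfsg.Agent.Lib.McLInvol.Cert
import Cfsg.Agent.Lib.SporPerm.McLModel
import Cfsg.Prelude.Def_SporadicB
import Mathlib.GroupTheory.SpecificGroups.Alternating
import Mathlib.GroupTheory.SpecificGroups.Alternating.Centralizer
import Mathlib.GroupTheory.Sylow

/-! McL has one class of involutions, and the centraliser of an involution is a double cover of `A₈`. -/

set_option autoImplicit false
set_option Elab.async false
set_option maxRecDepth 20000

namespace Cfsg.Agent.McLInvol

open Cfsg Cfsg.Agent.PermCert Cfsg.Agent.SporPerm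
open Cfsg.Agent.PermAut (Fwd fwd_rep)

attribute [local irreducible] cenGens altGens cpairGens tElt rootElt rootSig rootPair bigLevels mclGens sylElts conjs
  sylGens

/-- The coded group. -/
abbrev MG : Subgroup (Equiv.Perm (Fin 275)) := genGroup 9 275 mclGens

/-- The permutation of the involution. -/
noncomputable def T : Equiv.Perm (Fin 275) := toPerm 9 275 tElt

theorem rep_T : Rep 9 tElt T := rep_toPerm t_valid.1

theorem comp_eq_of {w n : ℕ} {a b c d : ℕ} {α β γ δ : Equiv.Perm (Fin n)} (ha : Fwd w (a, α))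
    (hb : Fwd w (b, β)) (hc : Fwd w (c, γ)) (hd : Fwd w (d, δ)) (h : comp w n a b = comp w n c d) :
    α * β = γ * δ := by
  refine Equiv.ext fun i => Fin.ext ?_
  have h1 := congrArg (fun x => get w x i) h
  simp only [get_comp _ _ _ _ _ i.2] at h1
  rwa [hb i, hd i, ha (β i), hc (δ i)] at h1

theorem eq_of_fwd {w n : ℕ} {a : ℕ} {α β : Equiv.Perm (Fin n)} (ha : Fwd w (a, α)) (hb : Fwd w (a, β)) : α = β :=
  Equiv.ext fun i => Fin.ext ((ha i).symm.trans (hb i))

theorem fwd_comp {w n : ℕ} {a b : ℕ} {α β : Equiv.Perm (Fin n)} (ha : Fwd w (a, α)) (hb : Fwd w (b, β)) :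
    Fwd w (comp w n a b, α * β) := fun i => by
  rw [show (comp w n a b, α * β).1 = comp w n a b from rfl, get_comp _ _ _ _ _ i.2, hb i, ha (β i)]
  rfl

theorem fwd_id {w n : ℕ} (hn : n ≤ 2 ^ w) : Fwd w (idCode w n, (1 : Equiv.Perm (Fin n))) :=
  fwd_rep (rep_one hn)

theorem card_MG : Nat.card MG = 898128000 := (cert_card mcl_cert).trans mcl_order

theorem big_cert : checkCert 9 275 mclGens bigDerived bigLevels = true :=
  checkCert_of_light big_light (by rw [card_MG, big_order])

theorem T_sq : T * T = 1 := by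
  have h := t_valid.2.2.1
  rw [Nat.beq_eq] at h
  exact eq_of_fwd (fwd_comp (fwd_rep rep_T) (fwd_rep rep_T)) (h ▸ fwd_id (by norm_num))

theorem tElt_packed : comp 9 275 tElt.1 (idCode 9 275) = tElt.1 := by decide +kernel

theorem T_ne : T ≠ 1 := by
  intro e
  have h : comp 9 275 tElt.1 (idCode 9 275) = idCode 9 275 := comp_eq_idCode fun i hi => by
    rw [get_idCode 9 275 i (by norm_num) hi]
    exact ((rep_T ⟨i, hi⟩).1).trans (by rw [e]; rfl)
  have hne := t_valid.2.2.2
  rw [show tElt.1 = idCode 9 275 from tElt_packed.symm.trans h] at hne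
  simp at hne

/-- The involution in the group. -/
noncomputable def tG : MG := ⟨T, cert_mem big_cert t_valid.1 t_valid.2.1⟩

theorem order_tG : orderOf tG = 2 := by
  haveI : Fact (Nat.Prime 2) := ⟨Nat.prime_two⟩
  refine orderOf_eq_prime (by rw [pow_two]; exact Subtype.ext T_sq) fun e => T_ne ?_
  exact congrArg Subtype.val e

/-! ### Conjugacy -/

theorem syl_le : genGroup 9 275 sylGens ≤ MG := by
  refine (Subgroup.closure_le _).2 fun σ hσ => ?_
  obtain ⟨g, hg, rfl⟩ := List.mem_map.1 hσ
  have h := List.all_eq_true.1 syl_sift g hg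
  rw [Bool.and_eq_true] at h
  exact cert_mem big_cert h.1 h.2

theorem exists_sylElt {σ : Equiv.Perm (Fin 275)} (hσ : σ ∈ genGroup 9 275 sylGens) :
    ∃ e ∈ sylElts, Fwd 9 (e, σ) := by
  rw [genGroup, ← Subgroup.mem_toSubmonoid, Subgroup.closure_toSubmonoid_of_finite] at hσ
  induction hσ using Submonoid.closure_induction_left with
  | one =>
    obtain ⟨e, he, h⟩ := List.any_eq_true.1 syl_one
    rw [Nat.beq_eq] at h
    exact ⟨e, he, h ▸ fwd_id (by norm_num)⟩
  | mul_left x hx y _ ih =>
    obtain ⟨e, he, hf⟩ := ih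
    obtain ⟨g, hg, rfl⟩ := List.mem_map.1 hx
    have hv := List.all_eq_true.1 syl_sift g hg
    rw [Bool.and_eq_true] at hv
    obtain ⟨e', he', h⟩ := List.any_eq_true.1 (List.all_eq_true.1 (List.all_eq_true.1 syl_closed g hg) e he)
    rw [Nat.beq_eq] at h
    exact ⟨e', he', h ▸ fwd_comp (fwd_rep (rep_toPerm hv.1)) hf⟩

theorem isConj_tG {x : MG} (hx : orderOf x = 2) : IsConj x tG := by
  classical
  haveI : Fact (Nat.Prime 2) := ⟨Nat.prime_two⟩
  let K : Subgroup MG := (genGroup 9 275 sylGens).subgroupOf MG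
  have hK : Nat.card K = 2 ^ (Nat.card MG).factorization 2 := by
    rw [Nat.card_congr (Subgroup.subgroupOfEquivOfLe syl_le).toEquiv, cert_card syl_cert, syl_order, card_MG,
      show (898128000 : ℕ) = 2 ^ 7 * 7016625 by norm_num, Nat.factorization_mul (by norm_num) (by norm_num),
      Finsupp.add_apply, Nat.Prime.factorization_pow Nat.prime_two, Finsupp.single_eq_same,
      Nat.factorization_eq_zero_of_not_dvd (by norm_num : ¬ 2 ∣ 7016625)]
    norm_num
  have hp : IsPGroup 2 (Subgroup.zpowers x) := IsPGroup.of_card (n := 1) (by rw [Nat.card_zpowers, hx, pow_one])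
  obtain ⟨P, hP⟩ := hp.exists_le_sylow
  obtain ⟨g, hg⟩ := MulAction.exists_smul_eq MG P (Sylow.ofCard K hK)
  have hy : g * x * g⁻¹ ∈ K := by
    have h2 : ((g • P : Sylow 2 MG) : Subgroup MG) = K := by rw [hg]; rfl
    rw [← h2]
    exact Subgroup.mem_map.2 ⟨x, hP (Subgroup.mem_zpowers x), rfl⟩
  set y := g * x * g⁻¹ with hy0
  refine IsConj.trans (isConj_iff.2 ⟨g, rfl⟩) ?_
  rw [← hy0]
  have hoy : orderOf y = 2 := by
    have h3 : y = MulAut.conj g x := rfl
    rw [h3, MulEquiv.orderOf_eq, hx]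
  obtain ⟨e, he, hf⟩ := exists_sylElt (Subgroup.mem_subgroupOf.1 hy)
  have hI := List.all_eq_true.1 syl_invols e he
  simp only [involOK, Bool.or_eq_true, Bool.not_eq_true', List.any_eq_true, Nat.beq_eq] at hI
  rcases hI with (h1 | h2) | ⟨q, hq, hqe⟩
  · exfalso
    have : (y : Equiv.Perm (Fin 275)) = 1 := eq_of_fwd hf (h1 ▸ fwd_id (by norm_num))
    rw [show y = 1 from Subtype.ext this, orderOf_one] at hoy
    norm_num at hoy
  · exfalso
    have hyy : (y : Equiv.Perm (Fin 275)) * y = 1 := by
      rw [← Subgroup.coe_mul, ← pow_two, ← hoy, pow_orderOf_eq_one, Subgroup.coe_one]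
    have : comp 9 275 e e = idCode 9 275 := comp_eq_idCode fun i hi => by
      have h := fwd_comp hf hf ⟨i, hi⟩
      rw [show (comp 9 275 e e, (y : Equiv.Perm (Fin 275)) * y).1 = comp 9 275 e e from rfl,
        get_comp _ _ _ _ _ hi] at h
      rw [h, hyy]
      rfl
    rw [this] at h2
    simp at h2
  · have hc := List.all_eq_true.1 conjs_ok q hq
    simp only [conjOK, Bool.and_eq_true, Nat.beq_eq] at hc
    obtain ⟨⟨hv, hs⟩, hcomm⟩ := hc
    let c : MG := ⟨toPerm 9 275 q.2, cert_mem big_cert hv hs⟩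
    refine isConj_iff.2 ⟨c, ?_⟩
    rw [mul_inv_eq_iff_eq_mul]
    refine Subtype.ext ?_
    have hfc : Fwd 9 (q.2.1, (c : Equiv.Perm (Fin 275))) := fwd_rep (rep_toPerm hv)
    exact comp_eq_of hfc hf (fwd_rep rep_T) hfc (by rw [← hqe]; exact hcomm)

theorem isConj_of_order_two {x y : MG} (hx : orderOf x = 2) (hy : orderOf y = 2) : IsConj x y :=
  (isConj_tG hx).trans (isConj_tG hy).symm

/-! ### The centraliser -/

/-- Two permutations on disjoint blocks. -/
def join : Equiv.Perm (Fin 275) × Equiv.Perm (Fin 8) →* Equiv.Perm (Fin 283) :=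
  (finSumFinEquiv (m := 275) (n := 8)).permCongrHom.toMonoidHom.comp (Equiv.Perm.sumCongrHom _ _)

theorem join_inj : Function.Injective join :=
  (finSumFinEquiv (m := 275) (n := 8)).permCongrHom.injective.comp Equiv.Perm.sumCongrHom_injective

theorem toPerm_eq_join {a p : Elt} {s : Elt} (ha : validElt 9 275 a = true) (hs : validElt 3 8 s = true)
    (hp : validElt 9 283 p = true) (h : splitOK a s p = true) :
    toPerm 9 283 p = join (toPerm 9 275 a, toPerm 3 8 s) := by
  rw [splitOK, Bool.and_eq_true] at h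
  refine Equiv.ext fun j => Fin.ext ?_
  rw [← (rep_toPerm hp j).1]
  induction j using Fin.addCases (m := 275) (n := 8) with
  | left i =>
    have h1 := allBelow_spec _ _ h.1 i i.2
    rw [Nat.beq_eq, (rep_toPerm ha i).1] at h1
    simp only [Fin.val_castAdd, h1]
    show _ = ((finSumFinEquiv (m := 275) (n := 8)) (Sum.map _ _ (finSumFinEquiv.symm (Fin.castAdd 8 i))) : ℕ)
    rw [finSumFinEquiv_symm_apply_castAdd, Sum.map_inl, finSumFinEquiv_apply_left, Fin.val_castAdd]
  | right v =>
    have h1 := allBelow_spec _ _ h.2 v v.2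
    rw [Nat.beq_eq, (rep_toPerm hs v).1] at h1
    simp only [Fin.val_natAdd, h1]
    show _ = ((finSumFinEquiv (m := 275) (n := 8)) (Sum.map _ _ (finSumFinEquiv.symm (Fin.natAdd 275 v))) : ℕ)
    rw [finSumFinEquiv_symm_apply_natAdd, Sum.map_inr, finSumFinEquiv_apply_right, Fin.val_natAdd]

/-- The generating pairs. -/
noncomputable def pairList : List (Equiv.Perm (Fin 275) × Equiv.Perm (Fin 8)) :=
  triples.map fun q => (toPerm 9 275 q.1, toPerm 3 8 q.2.1)

/-- The graph of the action on eight points. -/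
noncomputable def graph : Subgroup (Equiv.Perm (Fin 275) × Equiv.Perm (Fin 8)) :=
  Subgroup.closure {d | d ∈ pairList}

theorem image_mem {α β : Type*} (f : α → β) (l : List α) : f '' {x | x ∈ l} = {y | y ∈ l.map f} := by
  ext y; simp

theorem map_join : graph.map join = genGroup 9 283 cpairGens := by
  rw [graph, MonoidHom.map_closure, image_mem, genGroup]
  congr 2
  rw [← triples_proj.2.2, pairList, List.map_map, List.map_map]
  funext σ
  rw [List.map_congr_left (f := join ∘ _) (g := toPerm 9 283 ∘ fun q => q.2.2)]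
  intro q hq
  have h := List.all_eq_true.1 triples_ok q hq
  simp only [Bool.and_eq_true] at h
  exact (toPerm_eq_join h.1.1.1 h.1.1.2 h.1.2 h.2).symm

theorem map_fst : graph.map (MonoidHom.fst _ _) = genGroup 9 275 cenGens := by
  rw [graph, MonoidHom.map_closure, image_mem, genGroup, ← triples_proj.1, pairList, List.map_map, List.map_map]
  rfl

theorem map_snd : graph.map (MonoidHom.snd _ _) = genGroup 3 8 altGens := by
  rw [graph, MonoidHom.map_closure, image_mem, genGroup, ← triples_proj.2.1, pairList, List.map_map, List.map_map]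
  rfl

theorem card_graph : Nat.card graph = 40320 := by
  rw [Nat.card_congr (graph.equivMapOfInjective join join_inj).toEquiv, map_join, cert_card cpair_cert, cpair_order]

theorem snd_range : graph.map (MonoidHom.snd _ _) = alternatingGroup (Fin 8) := by
  refine Subgroup.eq_of_le_of_card_ge ?_ ?_
  · rw [map_snd, genGroup, Subgroup.closure_le]
    intro σ hσ
    obtain ⟨e, he, rfl⟩ := List.mem_map.1 hσ
    exact Equiv.Perm.mem_alternatingGroup.2 (alt_even e he)
  · rw [map_snd, nat_card_alternatingGroup, Nat.card_fin]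
    exact le_trans (by rw [alt_order]; decide) (light_card_le alt_light)

theorem fst_mem {d : Equiv.Perm (Fin 275) × Equiv.Perm (Fin 8)} (hd : d ∈ graph) :
    d.1 ∈ MG ∧ d.1 * T = T * d.1 := by
  have h1 : d.1 ∈ genGroup 9 275 cenGens := map_fst ▸ Subgroup.mem_map.2 ⟨d, hd, rfl⟩
  have hle : genGroup 9 275 cenGens ≤ MG ⊓ Subgroup.centralizer {T} := by
    refine (Subgroup.closure_le _).2 fun σ hσ => ?_
    obtain ⟨g, hg, rfl⟩ := List.mem_map.1 hσ
    have h := List.all_eq_true.1 cen_gens g hg
    simp only [Bool.and_eq_true, Nat.beq_eq] at h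
    refine ⟨cert_mem big_cert h.1.1 h.1.2, ?_⟩
    exact Subgroup.mem_centralizer_singleton_iff.2
      (comp_eq_of (fwd_rep (rep_toPerm h.1.1)) (fwd_rep rep_T) (fwd_rep rep_T) (fwd_rep (rep_toPerm h.1.1)) h.2)
  exact ⟨(hle h1).1, Subgroup.mem_centralizer_singleton_iff.1 (hle h1).2⟩

/-- The first projection into the centraliser. -/
noncomputable def toCent : graph →* Subgroup.centralizer ({tG} : Set MG) where
  toFun d := ⟨⟨d.1.1, (fst_mem d.2).1⟩, Subgroup.mem_centralizer_singleton_iff.2 (Subtype.ext (fst_mem d.2).2)⟩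
  map_one' := rfl
  map_mul' _ _ := rfl

theorem card_cent_le : Nat.card (Subgroup.centralizer ({tG} : Set MG)) ≤ 40320 := by
  have h := ncard_comm_genGroup big_light (by rw [card_MG, big_order]) (fwd_rep rep_T)
  rw [big_fix, ← Nat.card_coe_set_eq] at h
  refine le_trans (Nat.card_le_card_of_injective
    (fun g => (⟨((g : MG) : Equiv.Perm (Fin 275)), (g : MG).2,
      congrArg Subtype.val (Subgroup.mem_centralizer_singleton_iff.1 g.2)⟩ :
      {g | g ∈ MG ∧ g * T = T * g})) (fun a b e => ?_)) h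
  exact Subtype.ext (Subtype.ext (congrArg (fun x : {g | g ∈ MG ∧ g * T = T * g} => x.val) e))

theorem toCent_bijective : Function.Bijective toCent := by
  have hr : 40320 ≤ Nat.card toCent.range := by
    let ψ : toCent.range → Equiv.Perm (Fin 275) := fun g => ((g : Subgroup.centralizer ({tG} : Set MG)) : MG)
    refine le_trans (le_of_eq cen_order.symm) (le_trans (light_card_le cen_light) ?_)
    rw [← map_fst]
    refine Nat.card_le_card_of_surjective (fun g => ⟨ψ g, ?_⟩) ?_
    · obtain ⟨d, hd⟩ := g.2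
      exact Subgroup.mem_map.2 ⟨d.1, d.2, congrArg (fun c : Subgroup.centralizer ({tG} : Set MG) => ((c : MG) : Equiv.Perm (Fin 275))) hd⟩
    · rintro ⟨σ, hσ⟩
      obtain ⟨d, hd, rfl⟩ := Subgroup.mem_map.1 hσ
      exact ⟨⟨toCent ⟨d, hd⟩, ⟨d, hd⟩, rfl⟩, rfl⟩
  have htop : toCent.range = ⊤ := Subgroup.eq_top_of_card_eq _ (le_antisymm (Subgroup.card_le_card_group _)
    (card_cent_le.trans hr))
  have hsurj : Function.Surjective toCent := MonoidHom.range_eq_top.1 htop
  refine (Nat.bijective_iff_surjective_and_card toCent).2 ⟨hsurj, ?_⟩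
  refine le_antisymm ?_ (Nat.card_le_card_of_surjective _ hsurj)
  rw [card_graph]
  exact hr.trans (Subgroup.card_le_card_group _)

theorem root_mem : ((toPerm 9 275 rootElt, toPerm 3 8 rootSig) : Equiv.Perm (Fin 275) × Equiv.Perm (Fin 8)) ∈ graph := by
  obtain ⟨ha, hs, hp, hsp, hsift, -⟩ := root_ok
  have h := cert_mem cpair_cert hp hsift
  rw [toPerm_eq_join ha hs hp hsp, ← map_join] at h
  obtain ⟨d, hd, e⟩ := Subgroup.mem_map.1 h
  exact join_inj e ▸ hd

/-- A central extension by an element of order two with a square root does not split. -/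
theorem nonsplit_of_hom {H : Type*} [Group H] [Finite H] (π : H →* alternatingGroup (Fin 8))
    (hπ : Function.Surjective π) (hker : Nat.card π.ker = 2) (g : H) (hg : g * g ∈ π.ker) (hg1 : g * g ≠ 1) :
    IsNonsplitDoubleCover H (alternatingGroup (Fin 8)) := by
  have hel : ∀ x ∈ π.ker, x = 1 ∨ x = g * g := by
    intro x hx
    obtain ⟨a, b, hab, huniv⟩ := Nat.card_eq_two_iff.1 hker
    have hm : ∀ y : π.ker, y = a ∨ y = b := fun y => by
      have := huniv ▸ Set.mem_univ y
      simpa using this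
    have hne : (1 : π.ker) ≠ ⟨g * g, hg⟩ := fun e => hg1 (congrArg Subtype.val e).symm
    rcases hm ⟨x, hx⟩ with h | h <;> rcases hm 1 with h1 | h1 <;> rcases hm ⟨g * g, hg⟩ with h2 | h2 <;>
      first
        | exact absurd (h1.trans h2.symm) hne
        | exact Or.inl (congrArg Subtype.val (h.trans h1.symm))
        | exact Or.inr (congrArg Subtype.val (h.trans h2.symm))
  have hcen : Subgroup.center H = π.ker := by
    apply le_antisymm
    · intro x hx
      have h2 : π x ∈ Subgroup.center (alternatingGroup (Fin 8)) := Subgroup.mem_center_iff.2 fun b => by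
        obtain ⟨h, rfl⟩ := hπ b
        rw [← map_mul, ← map_mul, Subgroup.mem_center_iff.1 hx h]
      rwa [alternatingGroup.center_eq_bot (by simp), Subgroup.mem_bot] at h2
    · intro x hx
      rcases hel x hx with rfl | rfl
      · exact one_mem _
      refine Subgroup.mem_center_iff.2 fun h => ?_
      rcases hel (h * (g * g) * h⁻¹) (π.normal_ker.conj_mem _ hg h) with e | e
      · exact absurd (conj_eq_one_iff.1 e) hg1
      · rwa [mul_inv_eq_iff_eq_mul] at e
  refine ⟨hcen ▸ hker, ⟨(QuotientGroup.quotientMulEquivOfEq hcen).trans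
    (QuotientGroup.quotientKerEquivOfSurjective π hπ)⟩, fun L hL => ?_⟩
  obtain ⟨⟨z, l⟩, hzl⟩ := hL.2 g
  have hzl' : (z : H) * l = g := hzl
  have hz2 : (z : H) * z = 1 := by
    have h := pow_card_eq_one' (x := (⟨z.1, z.2⟩ : ↥(Subgroup.center H)))
    rw [show Nat.card (Subgroup.center H) = 2 from hcen ▸ hker, pow_two] at h
    exact congrArg Subtype.val h
  have hgl : g * g = (l : H) * l := by
    rw [← hzl']
    have hc := Subgroup.mem_center_iff.1 z.2 (l : H)
    calc (z : H) * l * (z * l) = z * ((l : H) * z) * l := by group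
      _ = z * z * l * l := by rw [hc]; group
      _ = _ := by rw [hz2, one_mul]
  refine hg1 (Subgroup.mem_bot.1 (hL.disjoint.le_bot ⟨hcen ▸ hg, ?_⟩))
  rw [hgl]
  exact mul_mem l.2 l.2

theorem result_MG : ∀ {G : Type} [Group G] (e : G ≃* MG),
    (∀ x y : G, orderOf x = 2 → orderOf y = 2 → IsConj x y) ∧ ∃ t, orderOf t = 2 ∧
      IsNonsplitDoubleCover ↥(Subgroup.centralizer ({t} : Set G)) ↥(alternatingGroup (Fin 8)) := by
  intro G _ e
  refine ⟨fun x y hx hy => ?_, e.symm tG, by rw [MulEquiv.orderOf_eq, order_tG], ?_⟩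
  · have h := isConj_of_order_two (x := e x) (y := e y) (by rw [MulEquiv.orderOf_eq, hx])
      (by rw [MulEquiv.orderOf_eq, hy])
    simpa using (e.symm : MG →* G).map_isConj h
  let C := Subgroup.centralizer ({e.symm tG} : Set G)
  have hmap : C.map (e : G →* MG) = Subgroup.centralizer ({tG} : Set MG) := by
    ext z
    rw [Subgroup.mem_centralizer_singleton_iff, Subgroup.mem_map]
    constructor
    · rintro ⟨c, hc, rfl⟩
      have := congrArg e (Subgroup.mem_centralizer_singleton_iff.1 hc)
      simpa using this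
    · intro hz
      exact ⟨e.symm z, Subgroup.mem_centralizer_singleton_iff.2 (by rw [← map_mul, hz, map_mul]), by simp⟩
  let f : C ≃* graph := ((e.subgroupMap C).trans (MulEquiv.subgroupCongr hmap)).trans
    (MulEquiv.ofBijective toCent toCent_bijective).symm
  haveI : Finite C := Finite.of_equiv _ f.symm.toEquiv
  let π₀ : graph →* alternatingGroup (Fin 8) := ((MonoidHom.snd _ _).comp graph.subtype).codRestrict _
    fun d => snd_range ▸ Subgroup.mem_map.2 ⟨d.1, d.2, rfl⟩
  let π := π₀.comp f.toMonoidHom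
  have hπ₀ : Function.Surjective π₀ := by
    rintro ⟨σ, hσ⟩
    rw [← snd_range] at hσ
    obtain ⟨d, hd, rfl⟩ := Subgroup.mem_map.1 hσ
    exact ⟨⟨d, hd⟩, rfl⟩
  have hπ : Function.Surjective π := hπ₀.comp f.surjective
  have hcard : Nat.card C = 40320 := (Nat.card_congr f.toEquiv).trans card_graph
  have hk : Nat.card π.ker = 2 := by
    have h := Subgroup.card_mul_index π.ker
    rw [Subgroup.index_ker, MonoidHom.range_eq_top.2 hπ, Subgroup.card_top,
      nat_card_alternatingGroup, Nat.card_fin, hcard, show Nat.factorial 8 / 2 = 20160 by decide] at h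
    omega
  obtain ⟨ha, hs, -, -, -, hsq, hssq⟩ := root_ok
  rw [Nat.beq_eq] at hsq hssq
  have h1 : toPerm 9 275 rootElt * toPerm 9 275 rootElt = T :=
    eq_of_fwd (fwd_comp (fwd_rep (rep_toPerm ha)) (fwd_rep (rep_toPerm ha))) (hsq ▸ fwd_rep rep_T)
  have h2 : toPerm 3 8 rootSig * toPerm 3 8 rootSig = 1 :=
    eq_of_fwd (fwd_comp (fwd_rep (rep_toPerm hs)) (fwd_rep (rep_toPerm hs))) (hssq ▸ fwd_id (by norm_num))
  refine nonsplit_of_hom π hπ hk (f.symm ⟨_, root_mem⟩) ?_ ?_
  · rw [MonoidHom.mem_ker, ← map_mul]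
    show π₀ (f (f.symm _)) = 1
    rw [MulEquiv.apply_symm_apply]
    exact Subtype.ext h2
  · rw [← map_mul, ne_eq, MulEquiv.map_eq_one_iff]
    intro he
    exact T_ne (h1 ▸ congrArg (fun d : graph => d.1.1) he)

end Cfsg.Agent.McLInvol
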