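import Cfsg.Agent.Lib.McLInvol.FixCount
import Cfsg.Agent.Lib.McLInvol.ChainData
import Cfsg.Agent.Lib.McLInvol.CentData
import Cfsg.Agent.Lib.McLInvol.SylowData
import Cfsg.Agent.Lib.SporPerm.McLData

/-! Kernel checks for the involutions of McL. -/

set_option autoImplicit false
set_option maxRecDepth 20000
set_option Elab.async false

namespace Cfsg.Agent.McLInvol

open Cfsg.Agent.PermCert Cfsg.Agent.SporPerm

/-- A code on `283` points agrees with a code on the first `275` and one on the last `8`. -/
def splitOK (a s p : Elt) : Bool :=
  allBelow (fun i => Nat.beq (get 9 p.1 i) (get 9 a.1 i)) 275 &&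
    allBelow (fun v => Nat.beq (get 9 p.1 (275 + v)) (275 + get 3 s.1 v)) 8

/-- The generators of the centraliser with their images and the combined codes. -/
def triples : List (Elt × Elt × Elt) := cenGens.zip (altGens.zip cpairGens)

/-- A conjugating element of the group. -/
def conjOK (q : ℕ × Elt) : Bool :=
  validElt 9 275 q.2 && sift 9 275 bigLevels q.2.1 &&
    Nat.beq (comp 9 275 q.2.1 q.1) (comp 9 275 tElt.1 q.2.1)

/-- An element is no involution or is listed with a conjugating element. -/
def involOK (e : ℕ) : Bool :=
  Nat.beq e (idCode 9 275) || !Nat.beq (comp 9 275 e e) (idCode 9 275) || conjs.any fun q => Nat.beq q.1 e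

theorem big_light : lightCert 9 275 mclGens bigDerived bigLevels = true := by decide +kernel

theorem big_order : certOrder bigLevels = 898128000 := by decide +kernel

theorem big_fix : fixProd 9 tElt.1 bigLevels = 40320 := by decide +kernel

theorem t_valid : validElt 9 275 tElt = true ∧ sift 9 275 bigLevels tElt.1 = true ∧
    Nat.beq (comp 9 275 tElt.1 tElt.1) (idCode 9 275) = true ∧ Nat.beq tElt.1 (idCode 9 275) = false := by
  decide +kernel

theorem cen_light : lightCert 9 275 cenGens cenDerived cenLevels = true := by decide +kernel

theorem cen_order : certOrder cenLevels = 40320 := by decide +kernel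

theorem cen_gens : (cenGens.all fun g => validElt 9 275 g && sift 9 275 bigLevels g.1 &&
    Nat.beq (comp 9 275 g.1 tElt.1) (comp 9 275 tElt.1 g.1)) = true := by decide +kernel

theorem cpair_cert : checkCert 9 283 cpairGens cpairDerived cpairLevels = true := by decide +kernel

theorem cpair_order : certOrder cpairLevels = 40320 := by decide +kernel

theorem alt_light : lightCert 3 8 altGens altDerived altLevels = true := by decide +kernel

theorem alt_order : certOrder altLevels = 20160 := by decide +kernel

theorem alt_even : ∀ e ∈ altGens, Equiv.Perm.sign (toPerm 3 8 e) = 1 := by decide +kernel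

theorem triples_ok : (triples.all fun q => validElt 9 275 q.1 && validElt 3 8 q.2.1 && validElt 9 283 q.2.2 &&
    splitOK q.1 q.2.1 q.2.2) = true := by decide +kernel

theorem triples_proj : triples.map (fun q => q.1) = cenGens ∧ triples.map (fun q => q.2.1) = altGens ∧
    triples.map (fun q => q.2.2) = cpairGens := ⟨rfl, rfl, rfl⟩

theorem root_ok : validElt 9 275 rootElt = true ∧ validElt 3 8 rootSig = true ∧ validElt 9 283 rootPair = true ∧
    splitOK rootElt rootSig rootPair = true ∧ sift 9 283 cpairLevels rootPair.1 = true ∧
    Nat.beq (comp 9 275 rootElt.1 rootElt.1) tElt.1 = true ∧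
    Nat.beq (comp 3 8 rootSig.1 rootSig.1) (idCode 3 8) = true := by decide +kernel

theorem syl_cert : checkCert 9 275 sylGens sylDerived sylLevels = true := by decide +kernel

theorem syl_order : certOrder sylLevels = 128 := by decide +kernel

theorem syl_sift : (sylGens.all fun g => validElt 9 275 g && sift 9 275 bigLevels g.1) = true := by decide +kernel

theorem syl_one : (sylElts.any fun e => Nat.beq e (idCode 9 275)) = true := by decide +kernel

theorem syl_closed : (sylGens.all fun g => sylElts.all fun e => sylElts.any fun e' =>
    Nat.beq (comp 9 275 g.1 e) e') = true := by decide +kernel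

theorem syl_invols : sylElts.all involOK = true := by decide +kernel

theorem conjs_ok : conjs.all conjOK = true := by decide +kernel

end Cfsg.Agent.McLInvol
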