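import Cfsg.Agent.Lib.Compute.LightCert
import Cfsg.Agent.Lib.Compute.AutSpec
import Mathlib.Algebra.Order.BigOperators.Group.Finset

/-!
An upper bound for the number of elements of a full stabiliser chain commuting with a permutation: at each
level whose base point is fixed by the permutation, only the fixed points of the orbit are reached.
-/

set_option autoImplicit false

namespace Cfsg.Agent.McLInvol

open Cfsg.Agent.PermCert Cfsg.Agent.PermAut

/-- The product over the levels of the numbers of reachable points. -/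
def fixProd (w c : ℕ) : List CLevel → ℕ
  | [] => 1
  | (b, _, T) :: L =>
    (if Nat.beq (get w c b) b then (T.filter fun t => Nat.beq (get w c t.1) t.1).length else T.length) *
      fixProd w c L

variable {w n : ℕ}

theorem topMon_inv {L : List CLevel} {g : Equiv.Perm (Fin n)} (h : g ∈ topMon w n L) : g⁻¹ ∈ topMon w n L := by
  rw [topMon, ← Subgroup.closure_toSubmonoid_of_finite, Subgroup.mem_toSubmonoid] at h ⊢
  exact inv_mem h

theorem ncard_comm_le {c : ℕ} {C : Equiv.Perm (Fin n)} (hC : Fwd w (c, C)) :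
    ∀ {L : List CLevel}, LightSpec w n L →
      (topMon w n L : Set (Equiv.Perm (Fin n))) ⊆ lightSet w n L →
      {g | g ∈ lightSet w n L ∧ g * C = C * g}.ncard ≤ fixProd w c L
  | [], _, _ => by
    refine le_trans (Set.ncard_le_ncard (t := {1}) (fun g hg => hg.1) (Set.toFinite _)) ?_
    simp [fixProd]
  | (b, S, T) :: L, h, hfull => by
    classical
    have hfullL := full_tail h hfull
    have ih := ncard_comm_le hC h.1 hfullL
    set X : Set (Equiv.Perm (Fin n)) := {g | g ∈ lightSet w n ((b, S, T) :: L) ∧ g * C = C * g} with hX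
    set T' := if Nat.beq (get w c b) b then T.filter fun t => Nat.beq (get w c t.1) t.1 else T with hT'
    let K : Finset ℕ := (T'.map fun t => t.1).toFinset
    let key : Equiv.Perm (Fin n) → ℕ := fun g => (g ⟨b, h.2.1⟩ : ℕ)
    have hKcard : K.card ≤ T'.length := (List.toFinset_card_le _).trans (List.length_map _).le
    have hlen : T'.length * fixProd w c L = fixProd w c ((b, S, T) :: L) := by
      rw [hT', fixProd]
      split <;> rfl
    rw [← hlen, Set.ncard_eq_toFinset_card']
    have hmaps : ∀ g ∈ X.toFinset, key g ∈ K := by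
      intro g hg
      rw [Set.mem_toFinset] at hg
      obtain ⟨t, ht, τ, hτ, r, hr, rfl⟩ := hg.1
      have hk : key (τ * r) = t.1 := tfst_apply h ht hτ hr
      rw [hk, List.mem_toFinset, List.mem_map]
      refine ⟨t, ?_, rfl⟩
      rw [hT']
      split
      · rename_i hb
        refine List.mem_filter.2 ⟨ht, ?_⟩
        rw [Nat.beq_eq] at hb ⊢
        have hCb : C ⟨b, h.2.1⟩ = ⟨b, h.2.1⟩ := Fin.ext ((hC ⟨b, h.2.1⟩).symm.trans hb)
        have e := congrArg (fun σ : Equiv.Perm (Fin n) => σ ⟨b, h.2.1⟩) hg.2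
        simp only [Equiv.Perm.mul_apply, hCb] at e
        rw [← hk]
        show get w c ((τ * r) ⟨b, h.2.1⟩ : ℕ) = ((τ * r) ⟨b, h.2.1⟩ : ℕ)
        rw [hC ((τ * r) ⟨b, h.2.1⟩), Equiv.Perm.mul_apply, ← e]
      · exact ht
    refine le_trans (Finset.card_le_mul_card_image_of_maps_to hmaps (fixProd w c L) fun k _ => ?_) ?_
    · rcases (X.toFinset.filter fun g => key g = k).eq_empty_or_nonempty with he | ⟨g₀, hg₀⟩
      · rw [he]; simp
      rw [Finset.mem_filter, Set.mem_toFinset] at hg₀
      refine le_trans ?_ ih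
      rw [Set.ncard_eq_toFinset_card']
      refine Finset.card_le_card_of_injOn (fun g => g₀⁻¹ * g) (fun g hg => ?_)
        (fun a _ a' _ e => mul_left_cancel e)
      rw [Finset.mem_coe, Finset.mem_filter, Set.mem_toFinset] at hg
      rw [Finset.mem_coe, Set.mem_toFinset]
      obtain ⟨t₀, ht₀, τ₀, hτ₀, r₀, hr₀, e₀⟩ := hg₀.1.1
      obtain ⟨t, ht, τ, hτ, r, hr, e⟩ := hg.1.1
      have hk : t₀.1 = t.1 := by
        rw [← tfst_apply h ht₀ hτ₀ hr₀, ← tfst_apply h ht hτ hr, e₀, e]
        exact hg₀.2.trans hg.2.symm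
      have : t₀ = t := List.inj_on_of_nodup_map h.2.2.2.2.2.2 ht₀ ht hk
      subst this
      obtain rfl := rep_unique hτ₀ hτ
      refine ⟨?_, ?_⟩
      · show g₀⁻¹ * g ∈ lightSet w n L
        rw [← e₀, ← e, show (τ₀ * r₀)⁻¹ * (τ₀ * r) = r₀⁻¹ * r by group]
        exact hfullL (mul_mem (topMon_inv (lightSet_subset h.1 hr₀)) (lightSet_subset h.1 hr))
      · have h1 : Commute g₀ C := hg₀.1.2
        exact h1.inv_left.mul_left hg.1.2
    · rw [mul_comm]
      exact Nat.mul_le_mul_right _ hKcard

/-- A light certificate of a group of that order gives the bound for the group. -/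
theorem ncard_comm_genGroup {gens : List Elt} {derived : List (Elt × List ℕ)} {levels : List CLevel}
    (h : lightCert w n gens derived levels = true) (hle : Nat.card (genGroup w n gens) ≤ certOrder levels)
    {c : ℕ} {C : Equiv.Perm (Fin n)} (hC : Fwd w (c, C)) :
    {g | g ∈ genGroup w n gens ∧ g * C = C * g}.ncard ≤ fixProd w c levels := by
  obtain ⟨hs, -, -, hsub⟩ := light_facts h
  have heq : lightSet w n levels = (genGroup w n gens : Set (Equiv.Perm (Fin n))) :=
    Set.eq_of_subset_of_ncard_le ((lightSet_subset hs).trans hsub)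
      (by rw [ncard_lightSet hs, ← Nat.card_coe_set_eq]; exact hle)
  have := ncard_comm_le hC hs (heq ▸ hsub)
  rwa [heq] at this

end Cfsg.Agent.McLInvol
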