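import Cfsg.Agent.Lib.McLInvol.Cert
import Cfsg.Agent.Lib.McLInvol.FusData

/-! Kernel checks for the 2-fusion system of McL. -/

set_option autoImplicit false
set_option maxRecDepth 20000
set_option Elab.async false

namespace Cfsg.Agent.McLInvol

open Cfsg.Agent.PermCert

/-- The generators of the image of the Sylow 2-subgroup. -/
def barGens : List Elt := sylPairs.map fun q => q.2.1

/-- Membership in the listed image. -/
def inBar (x : ℕ) : Bool := barElts.any fun e => Nat.beq e x

/-- An element of the Sylow 2-subgroup is central in it only if it is trivial or the involution. -/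
def centOK (e : ℕ) : Bool :=
  Nat.beq e (idCode 9 275) || Nat.beq e tElt.1 ||
    sylGens.any fun g => !Nat.beq (comp 9 275 e g.1) (comp 9 275 g.1 e)

/-- A representative other than the identity does not normalise the image. -/
def repOK (r : Elt) : Bool :=
  validElt 3 8 r && (Nat.beq r.1 (idCode 3 8) || barGens.any fun g => !inBar (comp 3 8 r.1 (comp 3 8 g.1 r.2)))

theorem sylPairs_ok : (sylPairs.all fun q => validElt 9 275 q.1 && validElt 3 8 q.2.1 && validElt 9 283 q.2.2 &&
    splitOK q.1 q.2.1 q.2.2 && sift 9 283 cpairLevels q.2.2.1) = true := by decide +kernel

theorem sylPairs_proj : sylPairs.map (fun q => q.1) = sylGens := rfl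

theorem t_syl : sift 9 275 sylLevels tElt.1 = true := by decide +kernel

theorem syl_cent : sylElts.all centOK = true := by decide +kernel

theorem bar_tree : allBelow (fun i => (Nat.beq i 0 && Nat.beq (barElts.getD i 0) (idCode 3 8)) ||
    barGens.any fun g => (List.range i).any fun j =>
      Nat.beq (comp 3 8 g.1 (barElts.getD j 0)) (barElts.getD i 0)) 64 = true ∧ barElts.length = 64 := by
  decide +kernel

theorem bar_one : inBar (idCode 3 8) = true := by decide +kernel

theorem bar_closed : (barGens.all fun g => barElts.all fun e => inBar (comp 3 8 g.1 e)) = true := by decide +kernel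

theorem reps_ok : barReps.all repOK = true := by decide +kernel

theorem reps_one : (barReps.any fun r => Nat.beq r.1 (idCode 3 8)) = true := by decide +kernel

/-- The listed representative of a product. -/
def nextRep (k i : ℕ) : ℕ := (barNext.getD k []).getD i 0

/-- A product of a generator and a representative is a representative times an element of the image. -/
def nextOK (k i : ℕ) : Bool :=
  Nat.blt (nextRep k i) 315 && inBar (comp 3 8 (barReps.getD (nextRep k i) (0, 0)).2
    (comp 3 8 (altGens.getD k (0, 0)).1 (barReps.getD i (0, 0)).1))

theorem reps_closed : allBelow (fun k => allBelow (nextOK k) 315) altGens.length = true ∧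
    barReps.length = 315 := by decide +kernel

theorem alt_valid : (altGens.all fun g => validElt 3 8 g) = true := by decide +kernel

theorem oinv_light : lightCert 9 275 oinvGens oinvDerived oinvLevels = true := by decide +kernel

theorem oinv_order : certOrder oinvLevels = 128 := by decide +kernel

theorem oinv_ok : (oinvGens.all fun g => validElt 9 275 g && sift 9 275 sylLevels g.1 &&
    Nat.beq (comp 9 275 g.1 g.1) (idCode 9 275)) = true := by decide +kernel

end Cfsg.Agent.McLInvol
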