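import Cfsg.Agent.Lib.McLInvol.Main
import Cfsg.Agent.Lib.McLInvol.FusCert
import Cfsg.Agent.Lib.Fusion.Simple

/-! The 2-fusion system of McL is simple: the Sylow 2-subgroup is self-normalising and generated by involutions,
which form one class. -/

set_option autoImplicit false
set_option Elab.async false
set_option maxRecDepth 20000

namespace Cfsg.Agent.McLInvol

open Cfsg Cfsg.FusionSystem Cfsg.Agent.PermCert Cfsg.Agent.FusionSys
open Cfsg.Agent.PermAut (Fwd fwd_rep)

attribute [local irreducible] sylGens sylElts altGens cpairGens tElt barElts barReps oinvGens sylPairs barNext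
  nextRep

/-- The Sylow 2-subgroup. -/
abbrev SP : Subgroup (Equiv.Perm (Fin 275)) := genGroup 9 275 sylGens

/-- Its image in degree eight. -/
noncomputable def bar : Subgroup (Equiv.Perm (Fin 8)) := genGroup 3 8 barGens

theorem sylPair_facts {q : Elt × Elt × Elt} (hq : q ∈ sylPairs) :
    validElt 9 275 q.1 = true ∧ validElt 3 8 q.2.1 = true ∧
      ((toPerm 9 275 q.1, toPerm 3 8 q.2.1) : Equiv.Perm (Fin 275) × Equiv.Perm (Fin 8)) ∈ graph := by
  have h := List.all_eq_true.1 sylPairs_ok q hq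
  simp only [Bool.and_eq_true] at h
  obtain ⟨⟨⟨⟨ha, hs⟩, hp⟩, hsp⟩, hsift⟩ := h
  refine ⟨ha, hs, ?_⟩
  have h := cert_mem cpair_cert hp hsift
  rw [toPerm_eq_join ha hs hp hsp, ← map_join] at h
  obtain ⟨d, hd, e⟩ := Subgroup.mem_map.1 h
  exact join_inj e ▸ hd

/-- The Sylow 2-subgroup with its action on eight points. -/
noncomputable def sg : Subgroup (Equiv.Perm (Fin 275) × Equiv.Perm (Fin 8)) :=
  Subgroup.closure {d | d ∈ sylPairs.map fun q => (toPerm 9 275 q.1, toPerm 3 8 q.2.1)}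

theorem sg_le : sg ≤ graph := by
  refine (Subgroup.closure_le _).2 fun d hd => ?_
  obtain ⟨q, hq, rfl⟩ := List.mem_map.1 hd
  exact (sylPair_facts hq).2.2

theorem sg_fst : sg.map (MonoidHom.fst _ _) = SP := by
  rw [sg, MonoidHom.map_closure, image_mem, SP, genGroup, ← sylPairs_proj, List.map_map, List.map_map]
  rfl

theorem sg_snd : sg.map (MonoidHom.snd _ _) = bar := by
  rw [sg, MonoidHom.map_closure, image_mem, bar, genGroup, barGens, List.map_map, List.map_map]
  rfl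

theorem fst_inj {d d' : Equiv.Perm (Fin 275) × Equiv.Perm (Fin 8)} (hd : d ∈ graph) (hd' : d' ∈ graph)
    (h : d.1 = d'.1) : d = d' := by
  have := toCent_bijective.1 (a₁ := ⟨d, hd⟩) (a₂ := ⟨d', hd'⟩) (Subtype.ext (Subtype.ext h))
  exact congrArg Subtype.val this

theorem SP_le_MG : SP ≤ MG := syl_le

theorem T_mem_SP : T ∈ SP := cert_mem syl_cert t_valid.1 t_syl

theorem SP_comm_T {x : Equiv.Perm (Fin 275)} (hx : x ∈ SP) : x * T = T * x := by
  rw [← sg_fst] at hx
  obtain ⟨d, hd, rfl⟩ := Subgroup.mem_map.1 hx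
  exact (fst_mem (sg_le hd)).2

theorem SP_centre {x : Equiv.Perm (Fin 275)} (hx : x ∈ SP) (hc : ∀ y ∈ SP, x * y = y * x) : x = 1 ∨ x = T := by
  obtain ⟨e, he, hf⟩ := exists_sylElt hx
  have h := List.all_eq_true.1 syl_cent e he
  simp only [centOK, Bool.or_eq_true, List.any_eq_true, Bool.not_eq_true', Nat.beq_eq] at h
  rcases h with (h1 | h1) | ⟨g, hg, h1⟩
  · exact Or.inl (eq_of_fwd hf (h1 ▸ fwd_id (by norm_num)))
  · exact Or.inr (eq_of_fwd hf (h1 ▸ fwd_rep rep_T))
  · exfalso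
    have hv := List.all_eq_true.1 syl_sift g hg
    rw [Bool.and_eq_true] at hv
    have hfg := fwd_rep (rep_toPerm hv.1)
    have hgS : toPerm 9 275 g ∈ SP := Subgroup.subset_closure (List.mem_map.2 ⟨g, hg, rfl⟩)
    have : comp 9 275 e g.1 = comp 9 275 g.1 e := pack_congr 9 275 fun i hi => by
      have e1 := fwd_comp hf hfg ⟨i, hi⟩
      have e2 := fwd_comp hfg hf ⟨i, hi⟩
      rw [show (comp 9 275 e g.1, x * toPerm 9 275 g).1 = comp 9 275 e g.1 from rfl,
        get_comp _ _ _ _ _ hi] at e1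
      rw [show (comp 9 275 g.1 e, toPerm 9 275 g * x).1 = comp 9 275 g.1 e from rfl,
        get_comp _ _ _ _ _ hi] at e2
      rw [e1, e2, hc _ hgS]
    rw [← Bool.not_eq_true, Nat.beq_eq] at h1
    exact h1 this

/-! ### The image of the Sylow 2-subgroup is self-normalising -/

theorem barGen_valid {g : Elt} (hg : g ∈ barGens) : validElt 3 8 g = true := by
  obtain ⟨q, hq, rfl⟩ := List.mem_map.1 hg
  exact (sylPair_facts hq).2.1

theorem inBar_of_mem {σ : Equiv.Perm (Fin 8)} (hσ : σ ∈ bar) : ∃ e ∈ barElts, Fwd 3 (e, σ) := by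
  rw [bar, genGroup, ← Subgroup.mem_toSubmonoid, Subgroup.closure_toSubmonoid_of_finite] at hσ
  induction hσ using Submonoid.closure_induction_left with
  | one =>
    obtain ⟨e, he, h⟩ := List.any_eq_true.1 bar_one
    rw [Nat.beq_eq] at h
    exact ⟨e, he, h ▸ fwd_id (by norm_num)⟩
  | mul_left x hx y _ ih =>
    obtain ⟨e, he, hf⟩ := ih
    obtain ⟨g, hg, rfl⟩ := List.mem_map.1 hx
    obtain ⟨e', he', h⟩ := List.any_eq_true.1 (List.all_eq_true.1 (List.all_eq_true.1 bar_closed g hg) e he)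
    rw [Nat.beq_eq] at h
    exact ⟨e', he', h ▸ fwd_comp (fwd_rep (rep_toPerm (barGen_valid hg))) hf⟩

theorem mem_bar_of_listed : ∀ i < 64, ∃ σ ∈ bar, Fwd 3 (barElts.getD i 0, σ) := by
  intro i
  induction i using Nat.strong_induction_on with
  | _ i ih =>
    intro hi
    have h := allBelow_spec _ _ bar_tree.1 i hi
    simp only [Bool.or_eq_true, Bool.and_eq_true, List.any_eq_true, List.mem_range, Nat.beq_eq] at h
    rcases h with ⟨-, h⟩ | ⟨g, hg, j, hj, h⟩
    · exact ⟨1, one_mem _, h ▸ fwd_id (by norm_num)⟩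
    · obtain ⟨σ, hσ, hf⟩ := ih j hj (hj.trans hi)
      exact ⟨_, mul_mem (Subgroup.subset_closure (List.mem_map.2 ⟨g, hg, rfl⟩)) hσ,
        h ▸ fwd_comp (fwd_rep (rep_toPerm (barGen_valid hg))) hf⟩

theorem mem_bar_of_inBar {x : ℕ} {σ : Equiv.Perm (Fin 8)} (hf : Fwd 3 (x, σ)) (h : inBar x = true) : σ ∈ bar := by
  obtain ⟨e, he, hx⟩ := List.any_eq_true.1 h
  rw [Nat.beq_eq] at hx
  obtain ⟨i, hi, rfl⟩ := List.mem_iff_getElem.1 he
  obtain ⟨τ, hτ, hfτ⟩ := mem_bar_of_listed i (bar_tree.2 ▸ hi)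
  rw [List.getD_eq_getElem _ _ hi] at hfτ
  exact eq_of_fwd hfτ (hx ▸ hf) ▸ hτ

theorem rep_spec {r : Elt} (hr : r ∈ barReps) : Rep 3 r (toPerm 3 8 r) := by
  have h := List.all_eq_true.1 reps_ok r hr
  rw [repOK, Bool.and_eq_true] at h
  exact rep_toPerm h.1

theorem exists_rep {σ : Equiv.Perm (Fin 8)} (hσ : σ ∈ genGroup 3 8 altGens) :
    ∃ r ∈ barReps, (toPerm 3 8 r)⁻¹ * σ ∈ bar := by
  rw [genGroup, ← Subgroup.mem_toSubmonoid, Subgroup.closure_toSubmonoid_of_finite] at hσ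
  induction hσ using Submonoid.closure_induction_left with
  | one =>
    obtain ⟨r, hr, h⟩ := List.any_eq_true.1 reps_one
    rw [Nat.beq_eq] at h
    refine ⟨r, hr, ?_⟩
    rw [eq_of_fwd (fwd_rep (rep_spec hr)) (h ▸ fwd_id (by norm_num)), inv_one, one_mul]
    exact one_mem _
  | mul_left x hx y _ ih =>
    obtain ⟨r, hr, hy⟩ := ih
    obtain ⟨g, hg, rfl⟩ := List.mem_map.1 hx
    obtain ⟨k, hk, rfl⟩ := List.mem_iff_getElem.1 hg
    obtain ⟨i, hi, rfl⟩ := List.mem_iff_getElem.1 hr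
    have h := allBelow_spec _ _ (allBelow_spec _ _ reps_closed.1 k hk) i (reps_closed.2 ▸ hi)
    rw [nextOK, Bool.and_eq_true, Nat.blt_eq, List.getD_eq_getElem _ _ hi, List.getD_eq_getElem _ _ hk] at h
    obtain ⟨hj, hin⟩ := h
    generalize nextRep k i = j at hj hin
    have hj' : j < barReps.length := reps_closed.2.symm ▸ hj
    rw [List.getD_eq_getElem _ _ hj'] at hin
    refine ⟨barReps[j], List.getElem_mem _, ?_⟩
    have hgv := List.all_eq_true.1 alt_valid _ (List.getElem_mem hk)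
    have hmid := mem_bar_of_inBar (fwd_comp (PermAut.bwd_rep (rep_spec (List.getElem_mem hj')))
      (fwd_comp (fwd_rep (rep_toPerm hgv)) (fwd_rep (rep_spec (List.getElem_mem hi))))) hin
    have hm := mul_mem hmid hy
    rwa [show ∀ a b c z : Equiv.Perm (Fin 8), a⁻¹ * (b * c) * (c⁻¹ * z) = a⁻¹ * (b * z) from
      fun a b c z => by group] at hm

theorem bar_normalizer {σ : Equiv.Perm (Fin 8)} (hσ : σ ∈ genGroup 3 8 altGens)
    (hn : ∀ s ∈ bar, σ * s * σ⁻¹ ∈ bar) : σ ∈ bar := by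
  obtain ⟨r, hr, hb⟩ := exists_rep hσ
  set b := (toPerm 3 8 r)⁻¹ * σ with hb0
  have hσ' : σ = toPerm 3 8 r * b := by rw [hb0]; group
  have h := List.all_eq_true.1 reps_ok r hr
  simp only [repOK, Bool.and_eq_true, Bool.or_eq_true, List.any_eq_true, Nat.beq_eq, Bool.not_eq_true'] at h
  rcases h.2 with h1 | ⟨g, hg, h1⟩
  · rwa [hσ', eq_of_fwd (fwd_rep (rep_spec hr)) (h1 ▸ fwd_id (by norm_num)), one_mul]
  · exfalso
    have hgB : toPerm 3 8 g ∈ bar := Subgroup.subset_closure (List.mem_map.2 ⟨g, hg, rfl⟩)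
    have h2 := hn _ (mul_mem (mul_mem (inv_mem hb) hgB) hb)
    rw [hσ', show ∀ a c z : Equiv.Perm (Fin 8), a * c * (c⁻¹ * z * c) * (a * c)⁻¹ = a * (z * a⁻¹) from
      fun a c z => by group] at h2
    obtain ⟨e, he, hf⟩ := inBar_of_mem h2
    have hf2 := fwd_comp (fwd_rep (rep_spec hr))
      (fwd_comp (fwd_rep (rep_toPerm (barGen_valid hg))) (PermAut.bwd_rep (rep_spec hr)))
    have heq : comp 3 8 r.1 (comp 3 8 g.1 r.2) = comp 3 8 e (idCode 3 8) := pack_congr 3 8 fun i hi => by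
      have a1 := hf2 ⟨i, hi⟩
      have a2 := hf ⟨i, hi⟩
      simp only [get_comp _ _ _ _ _ hi] at a1 ⊢
      simp only [get_idCode 3 8 i (by norm_num) hi]
      exact a1.trans a2.symm
    have hpk : ∀ x ∈ barElts, comp 3 8 x (idCode 3 8) = x := by decide +kernel
    rw [hpk e he] at heq
    have : inBar (comp 3 8 r.1 (comp 3 8 g.1 r.2)) = true :=
      List.any_eq_true.2 ⟨e, he, Nat.beq_eq.symm ▸ heq.symm⟩
    rw [this] at h1
    exact Bool.noConfusion h1

theorem normalizer_SP {g : Equiv.Perm (Fin 275)} (hg : g ∈ MG) (hn : ∀ x, x ∈ SP ↔ g * x * g⁻¹ ∈ SP) :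
    g ∈ SP := by
  -- the involution is fixed
  have hgT : g * T = T * g := by
    have h1 : g * T * g⁻¹ ∈ SP := (hn T).1 T_mem_SP
    rcases SP_centre h1 (fun y hy => by
      have hy' : g⁻¹ * y * g ∈ SP := (hn _).2 (by rw [show g * (g⁻¹ * y * g) * g⁻¹ = y by group]; exact hy)
      have hc := SP_comm_T hy'
      calc g * T * g⁻¹ * y = g * (T * (g⁻¹ * y * g)) * g⁻¹ := by group
        _ = g * (g⁻¹ * y * g * T) * g⁻¹ := by rw [hc]
        _ = y * (g * T * g⁻¹) := by group) with h | h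
    · exact absurd (conj_eq_one_iff.1 h) T_ne
    · exact mul_inv_eq_iff_eq_mul.1 h
  obtain ⟨⟨d, hd⟩, hdg⟩ := toCent_bijective.2
    ⟨⟨g, hg⟩, Subgroup.mem_centralizer_singleton_iff.2 (Subtype.ext hgT)⟩
  have hd1 : d.1 = g := congrArg (fun c : Subgroup.centralizer ({tG} : Set MG) => ((c : MG) : Equiv.Perm (Fin 275))) hdg
  have hmem : d.2 ∈ genGroup 3 8 altGens := map_snd ▸ Subgroup.mem_map.2 ⟨d, hd, rfl⟩
  have hσ : d.2 ∈ bar := by
    refine bar_normalizer hmem fun s hs => ?_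
    rw [← sg_snd] at hs ⊢
    obtain ⟨x, hx, rfl⟩ := Subgroup.mem_map.1 hs
    have h1 : (d * x * d⁻¹).1 ∈ SP := by
      show d.1 * x.1 * d.1⁻¹ ∈ SP
      rw [hd1]
      exact (hn _).1 (sg_fst ▸ Subgroup.mem_map.2 ⟨x, hx, rfl⟩)
    rw [← sg_fst] at h1
    obtain ⟨y, hy, e⟩ := Subgroup.mem_map.1 h1
    refine Subgroup.mem_map.2 ⟨y, hy, ?_⟩
    rw [fst_inj (sg_le hy) (mul_mem (mul_mem hd (sg_le hx)) (inv_mem hd)) e]
    rfl
  rw [← sg_snd] at hσ
  obtain ⟨x, hx, he⟩ := Subgroup.mem_map.1 hσ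
  -- the kernel of the action is generated by the involution
  have hk : ((x⁻¹ * d).1 = 1 ∨ (x⁻¹ * d).1 = T) := by
    let π : graph →* Equiv.Perm (Fin 8) := (MonoidHom.snd _ _).comp graph.subtype
    have hcard : Nat.card π.ker = 2 := by
      have h := Subgroup.card_mul_index π.ker
      rw [Subgroup.index_ker, MonoidHom.range_comp, Subgroup.range_subtype, snd_range, card_graph,
        nat_card_alternatingGroup, Nat.card_fin, show Nat.factorial 8 / 2 = 20160 by decide] at h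
      omega
    obtain ⟨ha, hs, -, -, -, hsq, hssq⟩ := root_ok
    rw [Nat.beq_eq] at hsq hssq
    have hT1 : ((T, 1) : Equiv.Perm (Fin 275) × Equiv.Perm (Fin 8)) ∈ graph := by
      have h := mul_mem root_mem root_mem
      rwa [Prod.mk_mul_mk, eq_of_fwd (fwd_comp (fwd_rep (rep_toPerm ha)) (fwd_rep (rep_toPerm ha)))
        (hsq ▸ fwd_rep rep_T), eq_of_fwd (fwd_comp (fwd_rep (rep_toPerm hs)) (fwd_rep (rep_toPerm hs)))
        (hssq ▸ fwd_id (by norm_num))] at h
    obtain ⟨a, b, -, huniv⟩ := Nat.card_eq_two_iff.1 hcard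
    have hm : ∀ y : π.ker, y = a ∨ y = b := fun y => by
      have := huniv ▸ Set.mem_univ y
      simpa using this
    let K0 : π.ker := ⟨⟨x⁻¹ * d, mul_mem (inv_mem (sg_le hx)) hd⟩, by
      rw [MonoidHom.mem_ker]
      show (x⁻¹ * d).2 = 1
      rw [Prod.snd_mul, Prod.snd_inv, show x.2 = d.2 from he, inv_mul_cancel]⟩
    let K1 : π.ker := ⟨⟨(T, 1), hT1⟩, rfl⟩
    have hne : (1 : π.ker) ≠ K1 := fun e => T_ne (congrArg (fun y : π.ker => (y : graph).1.1) e).symm
    rcases hm K0 with h | h <;> rcases hm 1 with h1 | h1 <;> rcases hm K1 with h2 | h2 <;>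
      first
        | exact absurd (h1.trans h2.symm) hne
        | exact Or.inl (congrArg (fun y : π.ker => (y : graph).1.1) (h.trans h1.symm))
        | exact Or.inr (congrArg (fun y : π.ker => (y : graph).1.1) (h.trans h2.symm))
  have hx1 : x.1 ∈ SP := sg_fst ▸ Subgroup.mem_map.2 ⟨x, hx, rfl⟩
  have hgx : g = x.1 * (x⁻¹ * d).1 := by rw [Prod.fst_mul, Prod.fst_inv, mul_inv_cancel_left, hd1]
  rw [hgx]
  refine mul_mem hx1 ?_
  rcases hk with h | h <;> rw [h]
  exacts [one_mem _, T_mem_SP]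

theorem SP_eq_oinv : genGroup 9 275 oinvGens = SP := by
  refine Subgroup.eq_of_le_of_card_ge ?_ ?_
  · refine (Subgroup.closure_le _).2 fun σ hσ => ?_
    obtain ⟨q, hq, rfl⟩ := List.mem_map.1 hσ
    have h := List.all_eq_true.1 oinv_ok q hq
    simp only [Bool.and_eq_true] at h
    exact cert_mem syl_cert h.1.1 h.1.2
  · exact (cert_card syl_cert).trans_le (by rw [syl_order, ← oinv_order]; exact light_card_le oinv_light)

theorem oinv_sq {q : Elt} (hq : q ∈ oinvGens) : toPerm 9 275 q * toPerm 9 275 q = 1 := by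
  have h := List.all_eq_true.1 oinv_ok q hq
  simp only [Bool.and_eq_true, Nat.beq_eq] at h
  exact eq_of_fwd (fwd_comp (fwd_rep (rep_toPerm h.1.1)) (fwd_rep (rep_toPerm h.1.1)))
    (h.2 ▸ fwd_id (by norm_num))

/-- The fusion system on the pullback of the distinguished Sylow subgroup is simple. -/
theorem fus_simple {G : Type*} [Group G] [Finite G] (e : G ≃* MG) (S : Sylow 2 G)
    (hS : ∀ x, x ∈ (S : Subgroup G) ↔ ((e x : MG) : Equiv.Perm (Fin 275)) ∈ SP) :
    (groupFusionSystem (S : Subgroup G)).IsSimple 2 := by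
  haveI : Fact (Nat.Prime 2) := ⟨Nat.prime_two⟩
  refine group_isSimple_of_generated S (fun h => ?_) (fun U hU => ?_) ?_
  · have hz : e.symm tG ∈ (S : Subgroup G) := (hS _).2 (by rw [e.apply_symm_apply]; exact T_mem_SP)
    rw [h, Subgroup.mem_bot] at hz
    have := order_tG
    rw [← MulEquiv.orderOf_eq e.symm, hz, orderOf_one] at this
    norm_num at this
  · obtain ⟨hUS, hcl⟩ := (group_stronglyClosed_iff S).1 hU
    rcases eq_or_ne U ⊥ with hbot | hbot
    · exact Or.inl hbot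
    right
    haveI : Nontrivial U := (Subgroup.nontrivial_iff_ne_bot U).2 hbot
    obtain ⟨k, hk, hcard⟩ := (S.2.to_le hUS).nontrivial_iff_card.1 inferInstance
    obtain ⟨u, hu⟩ := exists_prime_orderOf_dvd_card' (G := U) 2 (hcard ▸ dvd_pow_self 2 hk.ne')
    rw [← Subgroup.orderOf_coe] at hu
    refine le_antisymm hUS fun x hx => ?_
    have hle : SP ≤ (U.map (e : G →* MG)).map MG.subtype := by
      rw [← SP_eq_oinv]
      refine (Subgroup.closure_le _).2 fun σ hσ => ?_
      obtain ⟨q, hq, rfl⟩ := List.mem_map.1 hσ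
      by_cases h1 : toPerm 9 275 q = 1
      · rw [h1]; exact one_mem _
      have hqS : toPerm 9 275 q ∈ SP := SP_eq_oinv ▸ Subgroup.subset_closure (List.mem_map.2 ⟨q, hq, rfl⟩)
      let Q : MG := ⟨toPerm 9 275 q, SP_le_MG hqS⟩
      have hQ : orderOf Q = 2 := orderOf_eq_prime (by rw [pow_two]; exact Subtype.ext (oinv_sq hq))
        fun h => h1 (congrArg Subtype.val h)
      obtain ⟨c, hc⟩ := isConj_iff.1 (isConj_of_order_two (x := e (u : G))
        (by rw [MulEquiv.orderOf_eq]; exact hu) hQ)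
      have hgx : e (e.symm c * (u : G) * (e.symm c)⁻¹) = Q := by
        rw [map_mul, map_mul, map_inv, e.apply_symm_apply, hc]
      exact ⟨Q, ⟨_, hcl (e.symm c) u u.2 ((hS _).2 (hgx ▸ hqS)), hgx⟩, rfl⟩
    obtain ⟨z, ⟨y, hy, rfl⟩, hz⟩ := hle ((hS x).1 hx)
    exact e.injective (Subtype.ext hz) ▸ hy
  · intro g hg
    refine Subgroup.subset_closure ⟨hg, Or.inr (Or.inl ((hS g).2 (normalizer_SP (e g).2 fun x => ?_)))⟩
    constructor
    · intro hx
      obtain ⟨y, hy⟩ := e.surjective ⟨x, SP_le_MG hx⟩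
      have h := (hS _).1 ((Subgroup.mem_normalizer_iff.1 hg y).1 ((hS y).2 (by rw [hy]; exact hx)))
      rwa [map_mul, map_mul, map_inv, hy] at h
    · intro hx
      have hxM : x ∈ MG := by
        have := mul_mem (mul_mem (inv_mem (e g).2) (SP_le_MG hx)) (e g).2
        rwa [show ∀ a b : Equiv.Perm (Fin 275), a⁻¹ * (a * b * a⁻¹) * a = b from fun a b => by group] at this
      obtain ⟨y, hy⟩ := e.surjective ⟨x, hxM⟩
      have h := (hS _).1 ((Subgroup.mem_normalizer_iff.1 hg y).2 ((hS _).2 (by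
        rw [map_mul, map_mul, map_inv, hy]; exact hx)))
      rwa [hy] at h

/-- The 2-fusion system of a group isomorphic to the coded McL is simple on any Sylow 2-subgroup. -/
theorem fus_simple_any {G : Type*} [Group G] [Finite G] (e : G ≃* MG) (S : Sylow 2 G) :
    (groupFusionSystem (S : Subgroup G)).IsSimple 2 := by
  haveI : Fact (Nat.Prime 2) := ⟨Nat.prime_two⟩
  let K : Subgroup G := (SP.subgroupOf MG).comap (e : G →* MG)
  have hK : Nat.card K = 2 ^ (Nat.card G).factorization 2 := by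
    rw [show Nat.card K = 128 by
        rw [← Subgroup.card_map_of_injective (f := (e : G →* MG)) e.injective,
          Subgroup.map_comap_eq_self_of_surjective e.surjective,
          Nat.card_congr (Subgroup.subgroupOfEquivOfLe SP_le_MG).toEquiv, cert_card syl_cert, syl_order],
      Nat.card_congr e.toEquiv, card_MG,
      show (898128000 : ℕ) = 2 ^ 7 * 7016625 by norm_num, Nat.factorization_mul (by norm_num) (by norm_num),
      Finsupp.add_apply, Nat.Prime.factorization_pow Nat.prime_two, Finsupp.single_eq_same,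
      Nat.factorization_eq_zero_of_not_dvd (by norm_num : ¬ 2 ∣ 7016625)]
    norm_num
  obtain ⟨g, hg⟩ := MulAction.exists_smul_eq G S (Sylow.ofCard K hK)
  refine fus_simple ((MulAut.conj g).trans e) S fun x => ?_
  have h1 : ((g • S : Sylow 2 G) : Subgroup G) = K := by rw [hg]; rfl
  change x ∈ (S : Subgroup G) ↔ g * x * g⁻¹ ∈ K
  rw [← h1, Sylow.coe_subgroup_smul]
  exact (Subgroup.smul_mem_pointwise_smul_iff (a := MulAut.conj g) (S := (S : Subgroup G)) (x := x)).symm

end Cfsg.Agent.McLInvol
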